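import Cfsg.Prelude.Def_Sporadic
import Cfsg.Agent.Helper28.HeC.Main
import Cfsg.Agent.Helper28.PermModel2
set_option autoImplicit false
set_option maxRecDepth 1000000

/-!
# The Held group as a transitive permutation group on 2058 points
-/

namespace Cfsg.Agent.Helper28.He462
open Cfsg.Agent.Helper28 Cfsg.Agent.Helper28.He1 Cfsg.Agent.Helper28.HeC Cfsg.Spor

/-- the permutation group of the coset table -/
noncomputable abbrev H : Subgroup (Equiv.Perm (Fin 2058)) := KK idx 7 ptabs inv_ok layout.hL

theorem card_H : Nat.card ↥H = 4030387200 := by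
  have h := card_KK_of_injective He1.R idx 7 ptabs inv_ok layout.hL HeC.hrels card_inj.2
  rw [card_inj.1] at h
  exact h

theorem simple_H : IsSimpleGroup ↥H :=
  simple_KK He1.R idx 7 ptabs inv_ok layout.hL HeC.hrels card_inj.2 HeC.simple

theorem isHe_H : Cfsg.IsHe ↥H := ⟨simple_H, card_H⟩

instance trans_H : MulAction.IsPretransitive ↥H (Fin 2058) :=
  pretransitive_KK gen idx 7 ptabs inv_ok layout.hL layout.hig hn ws1 7 let_ok1 fix_ok1 orb1 orb_ok1 root_ok1

theorem stab_H : Nat.card ↥(MulAction.stabilizer (↥H) (0 : Fin 2058)) = 1958400 :=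
  card_stabilizer_of_pretransitive H 0 4030387200 1958400 card_H (by norm_num) (by norm_num)

/-- the pointwise stabiliser of the base is trivial -/
theorem base_trivial :
    Nat.card ↥(KK idx 7 ptabs inv_ok layout.hL ⊓ fixAllN [534, 974, 1, 0]) = 1 := by
  have h4 := level_ge gen idx 7 ptabs inv_ok layout.hL layout.hig ws4 3 let_ok4 [974, 1, 0] fix_ok4 orb4 orb_ok4 534 (by decide +kernel) 16 _ cnt4 (le_refl _)
  have h3 := level_ge gen idx 7 ptabs inv_ok layout.hL layout.hig ws3 2 let_ok3 [1, 0] fix_ok3 orb3 orb_ok3 974 (by decide +kernel) 90 _ cnt3 h4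
  have h2 := level_ge gen idx 7 ptabs inv_ok layout.hL layout.hig ws2 7 let_ok2 [0] fix_ok2 orb2 orb_ok2 1 (by decide +kernel) 1360 _ cnt2 h3
  have h1 := level_ge gen idx 7 ptabs inv_ok layout.hL layout.hig ws1 7 let_ok1 [] fix_ok1 orb1 orb_ok1 0 (by decide +kernel) 2058 _ cnt1 h2
  rw [← card_level0N] at h1
  have h0 : Nat.card ↥(KK idx 7 ptabs inv_ok layout.hL) = 4030387200 := card_H
  rw [h0] at h1
  have h5 := one_le_card_sub (KK idx 7 ptabs inv_ok layout.hL ⊓ fixAllN [534, 974, 1, 0])
  omega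

/-- a word of the generators that fixes the base is trivial in the presented group -/
theorem mk_eq_one_of_base (w : List ℕ) (hlet : ∀ l ∈ w, l < ptabs.L)
    (hfix : ∀ b ∈ [534, 974, 1, 0], trace ptabs.perm w b = b) :
    PresentedGroup.mk He1.R (ev gen 7 w) = 1 :=
  mk_ev_eq_one_of_base He1.R gen idx 7 ptabs inv_ok layout.hL HeC.hrels card_inj.2 layout.hig
    [534, 974, 1, 0] base_trivial w hlet hfix

/-- the isomorphism of the presented group with the permutation group -/
noncomputable def eH : PresentedGroup He1.R ≃* ↥H :=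
  equivKK He1.R idx 7 ptabs inv_ok layout.hL HeC.hrels card_inj.2

/-- the image of a word that moves a point is not trivial -/
theorem eH_ne_one (w : List ℕ) (hlet : ∀ l ∈ w, l < ptabs.L) (i : ℕ) (hi : i < ptabs.n)
    (hmove : trace ptabs.perm w i ≠ i) : eH (PresentedGroup.mk He1.R (ev gen 7 w)) ≠ 1 := by
  intro h
  exact rhoF_ev_ne_one gen idx 7 ptabs inv_ok layout.hL layout.hig w hlet i hi hmove
    (congrArg Subtype.val h)

/-- the image of a word that fixes the point `0` lies in the point stabiliser -/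
theorem eH_mem_stab (w : List ℕ) (hlet : ∀ l ∈ w, l < ptabs.L)
    (hfix : trace ptabs.perm w 0 = 0) :
    eH (PresentedGroup.mk He1.R (ev gen 7 w)) ∈ MulAction.stabilizer (↥H) (0 : Fin 2058) := by
  rw [MulAction.mem_stabilizer_iff]
  exact rhoF_ev_fix gen idx 7 ptabs inv_ok layout.hL layout.hig w hlet ⟨0, hn⟩ hfix

end Cfsg.Agent.Helper28.He462
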