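import Cfsg.Agent.Helper28.He462.Base
set_option autoImplicit false
set_option maxRecDepth 1000000

/-!
# Subgroups of the subgroup `S₄(4):2` of the presented Held group from presentations
-/

namespace Cfsg.Agent.Helper28.He462
open Cfsg.Agent.Helper28 Cfsg.Agent.Helper28.He1 Cfsg.Agent.Helper28.HeC Cfsg.Spor

/-- the subgroup `HH` is the stabiliser of the point `0` -/
theorem mem_HH_iff (y : PresentedGroup He1.R) :
    rhoG He1.R idx 7 ptabs inv_ok layout.hL HeC.hrels y ⟨0, hn⟩ = ⟨0, hn⟩ ↔ y ∈ HH He1.R He1.Y :=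
  (cox_cert inv_ok layout hn defs_ok 25080 facts_upto3 fin_ok par_ok hperm_all subfix_all).2.1 y

theorem card_HH : Nat.card ↥(HH He1.R He1.Y) = 1958400 := by
  have h := Subgroup.card_mul_index (HH He1.R He1.Y)
  rw [main_index, card_inj.1] at h
  omega

/-- a word that fixes the point `0` lies in `HH` -/
theorem mk_mem_HH (w : List ℕ) (hlet : ∀ l ∈ w, l < ptabs.L) (hfix : trace ptabs.perm w 0 = 0) :
    PresentedGroup.mk He1.R (ev gen 7 w) ∈ HH He1.R He1.Y := by
  rw [← mem_HH_iff]
  exact rhoF_ev_fix gen idx 7 ptabs inv_ok layout.hL layout.hig w hlet ⟨0, hn⟩ hfix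

/-- a word that moves a point is not trivial in the presented group -/
theorem mk_ne_one (w : List ℕ) (hlet : ∀ l ∈ w, l < ptabs.L) (i : ℕ) (hi : i < ptabs.n)
    (hmove : trace ptabs.perm w i ≠ i) : PresentedGroup.mk He1.R (ev gen 7 w) ≠ 1 := by
  intro h
  apply rhoF_ev_ne_one gen idx 7 ptabs inv_ok layout.hL layout.hig w hlet i hi hmove
  have h1 := congrArg (rhoG He1.R idx 7 ptabs inv_ok layout.hL HeC.hrels) h
  rw [map_one] at h1
  exact h1

theorem exists_HH_sub {β : Type} [DecidableEq β] (genS : Nat → β) (idxS : β → Nat) (ngenS : Nat)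
    (extraS : List (FreeGroup β)) (hig : ∀ k, k < ngenS → idxS (genS k) = k)
    (hgi : ∀ b : β, idxS b < ngenS)
    (rw : Nat → List Nat)
    (hrw : ∀ j, j < extraS.length → ev genS ngenS (rw j) = extraS.getD j 1)
    (hrl : ∀ j, j < extraS.length → ∀ l ∈ rw j, l < 2 * ngenS)
    (wa : Nat → List Nat)
    (hlet : lettersOkW (fun j => (rw j).flatMap (substL wa)) extraS.length ptabs.L = true)
    (hfix : fixOkW (fun j => (rw j).flatMap (substL wa)) extraS.length ptabs
      [534, 974, 1, 0] = true)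
    (hs : IsSimpleGroup (PresentedGroup (coxRels ([] : List (β × ℕ × β)) extraS)))
    (hlet0 : ∀ k, k < ngenS → ∀ l ∈ wa k, l < ptabs.L)
    (hfix0 : ∀ k, k < ngenS → trace ptabs.perm (wa k) 0 = 0)
    (b0 : β) (i : ℕ) (hi : i < ptabs.n)
    (hmove : trace ptabs.perm (wa (idxS b0)) i ≠ i) :
    ∃ N : Subgroup ↥(HH He1.R He1.Y),
      Nonempty (PresentedGroup (coxRels ([] : List (β × ℕ × β)) extraS) ≃* N) := by
  have hone : ∀ j, j < extraS.length →
      PresentedGroup.mk He1.R (ev gen 7 ((rw j).flatMap (substL wa))) = 1 := by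
    intro j hj
    apply mk_eq_one_of_base
    · intro l hl
      have := allL_sound _ _ (allLt_sound _ _ hlet j hj) l hl
      rwa [blt_eq] at this
    · intro b hb
      have := allL_sound _ _ (allLt_sound _ _ hfix j hj) b hb
      rwa [nbeq_eq] at this
  let φ := PresentedGroup.toGroup
    (lift_homF_rels genS idxS ngenS He1.R gen 7 wa extraS hig rw hrw hrl hone)
  have hof : ∀ b : β, φ (PresentedGroup.of b) =
      PresentedGroup.mk He1.R (ev gen 7 (wa (idxS b))) := by
    intro b
    have e : φ (PresentedGroup.of b) = homF idxS He1.R gen 7 wa b := PresentedGroup.toGroup.of _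
    rw [e]
    rfl
  have htop : (HH He1.R He1.Y).comap φ = ⊤ := by
    rw [eq_top_iff, ← PresentedGroup.closure_range_of, Subgroup.closure_le]
    rintro _ ⟨b, rfl⟩
    show φ (PresentedGroup.of b) ∈ HH He1.R He1.Y
    rw [hof]
    exact mk_mem_HH _ (hlet0 _ (hgi b)) (hfix0 _ (hgi b))
  have hmem : ∀ q, φ q ∈ HH He1.R He1.Y := by
    intro q
    have : q ∈ (HH He1.R He1.Y).comap φ := by rw [htop]; exact Subgroup.mem_top q
    exact this
  let ψ := φ.codRestrict (HH He1.R He1.Y) hmem
  have hne : ψ (PresentedGroup.of b0) ≠ 1 := by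
    intro h
    have h1 : φ (PresentedGroup.of b0) = 1 := congrArg Subtype.val h
    rw [hof] at h1
    exact mk_ne_one _ (hlet0 _ (hgi b0)) i hi hmove h1
  have hker : ψ.ker = ⊥ := by
    rcases hs.eq_bot_or_eq_top_of_normal ψ.ker inferInstance with h | h
    · exact h
    · exfalso
      apply hne
      have : PresentedGroup.of b0 ∈ ψ.ker := by rw [h]; exact Subgroup.mem_top _
      exact MonoidHom.mem_ker.mp this
  have hinj : Function.Injective ψ := (MonoidHom.ker_eq_bot_iff ψ).mp hker
  exact ⟨ψ.range, ⟨MonoidHom.ofInjective hinj⟩⟩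

/-- a subgroup of `HH` of half its order is normal of index 2 -/
theorem normal_index_two (N : Subgroup ↥(HH He1.R He1.Y)) (hN : Nat.card N = 979200) :
    N.Normal ∧ N.index = 2 := by
  have h := Subgroup.card_mul_index N
  rw [hN, card_HH] at h
  have h2 : N.index = 2 := by omega
  exact ⟨Subgroup.normal_of_index_eq_two h2, h2⟩

end Cfsg.Agent.Helper28.He462
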