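import Cfsg.Agent.Helper28.He462.Sub
import Cfsg.Agent.Helper28.S44Iso
set_option autoImplicit false
set_option maxRecDepth 1000000

/-!
# A subgroup `Sp₄(4)` of index 2 in the point stabiliser of the Held permutation group
-/

namespace Cfsg.Agent.Helper28.He462
open Cfsg.Agent.Helper28 Cfsg.Agent.Helper27 Cfsg.Spor

/-- the image of the generator `x` as a word of the Held generators -/
def wxS : List Nat := [6, 8, 10, 6, 4, 6, 4, 2, 8, 6, 4, 2, 8, 6, 4, 2, 8, 6, 4, 2, 8, 6, 4, 2, 8, 6, 4, 2, 8, 6, 4, 2]

/-- the images of the generators of `Sp₄(4)` as words of the Held generators -/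
noncomputable def waS (k : Nat) : List Nat :=
  if k = 0 then [4] else wxS

/-- the relators of `Sp₄(4)` as words -/
noncomputable def rwS (j : Nat) : List Nat := S44B.tabs.word (S44B.tabs.nsub + 2 * 2 + j)

theorem letS : lettersOkW (fun j => (rwS j).flatMap (substL waS)) S44P.extra.length He1.ptabs.L = true := by
  decide +kernel

theorem fixS : fixOkW (fun j => (rwS j).flatMap (substL waS)) S44P.extra.length He1.ptabs
    [534, 974, 1, 0] = true := by
  decide +kernel

theorem exists_Sp : ∃ N : Subgroup ↥(MulAction.stabilizer (↥H) (0 : Fin 2058)),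
    N.index = 2 ∧ Nonempty (N ≃* Matrix.symplecticGroup (Fin 2) GF4) := by
  obtain ⟨N, ⟨e⟩⟩ := exists_stab_sub S44B.gen S44B.idx 2 S44P.extra S44B.layout.hig
    (fun b => by cases b <;> decide) rwS S44B.layout.hextra
    (fun j hj l hl => by
      have h := S44B.layout.hletters (S44B.tabs.nsub + 2 * 2 + j)
        (by rw [S44B.layout.hnwords]; omega) l hl
      rw [S44B.layout.hL] at h
      exact h)
    waS letS fixS S44C.simple (by decide +kernel) (by decide +kernel)
    S44P.Gen.a 1 (by decide +kernel) (by decide +kernel)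
  refine ⟨N, index_two N ?_, ⟨e.symm.trans S44M.isoM⟩⟩
  rw [← Nat.card_congr e.toEquiv]
  exact S44C.card_inj.1

end Cfsg.Agent.Helper28.He462
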