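import Cfsg.Agent.Helper28.He462.Pres
import Cfsg.Agent.Helper28.He462.Sp
set_option autoImplicit false
set_option maxRecDepth 1000000

/-!
# A normal subgroup `Sp₄(4)` of index 2 in the subgroup `S₄(4):2` of the presented Held group
-/

namespace Cfsg.Agent.Helper28.He462
open Cfsg.Agent.Helper28 Cfsg.Agent.Helper27 Cfsg.Spor

theorem exists_Sp_pres : ∃ N : Subgroup ↥(HH He1.R He1.Y),
    N.Normal ∧ N.index = 2 ∧ Nonempty (N ≃* Matrix.symplecticGroup (Fin 2) GF4) := by
  obtain ⟨N, ⟨e⟩⟩ := exists_HH_sub S44B.gen S44B.idx 2 S44P.extra S44B.layout.hig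
    (fun b => by cases b <;> decide) rwS S44B.layout.hextra
    (fun j hj l hl => by
      have h := S44B.layout.hletters (S44B.tabs.nsub + 2 * 2 + j)
        (by rw [S44B.layout.hnwords]; omega) l hl
      rw [S44B.layout.hL] at h
      exact h)
    waS letS fixS S44C.simple (by decide +kernel) (by decide +kernel)
    S44P.Gen.a 1 (by decide +kernel) (by decide +kernel)
  have hc : Nat.card N = 979200 := by
    rw [← Nat.card_congr e.toEquiv]
    exact S44C.card_inj.1
  obtain ⟨h1, h2⟩ := normal_index_two N hc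
  exact ⟨N, h1, h2, ⟨e.symm.trans S44M.isoM⟩⟩

end Cfsg.Agent.Helper28.He462
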