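import Cfsg.Agent.Helper28.He462.Base
set_option autoImplicit false
set_option maxRecDepth 1000000

/-!
# Subgroups of the point stabiliser of the Held permutation group from presentations

A presented simple group whose generators are mapped to words of the Held generators that fix the point `0`,
such that the substituted relators fix the base, is isomorphic to a subgroup of the point stabiliser.
-/

namespace Cfsg.Agent.Helper28.He462
open Cfsg.Agent.Helper28 Cfsg.Agent.Helper28.He1 Cfsg.Agent.Helper28.HeC Cfsg.Spor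

theorem exists_stab_sub {β : Type} [DecidableEq β] (genS : Nat → β) (idxS : β → Nat) (ngenS : Nat)
    (extraS : List (FreeGroup β)) (hig : ∀ k, k < ngenS → idxS (genS k) = k)
    (hgi : ∀ b : β, idxS b < ngenS)
    (rw : Nat → List Nat)
    (hrw : ∀ j, j < extraS.length → ev genS ngenS (rw j) = extraS.getD j 1)
    (hrl : ∀ j, j < extraS.length → ∀ l ∈ rw j, l < 2 * ngenS)
    (wa : Nat → List Nat)
    (hlet : lettersOkW (fun j => (rw j).flatMap (substL wa)) extraS.length ptabs.L = true)
    (hfix : fixOkW (fun j => (rw j).flatMap (substL wa)) extraS.length ptabs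
      [534, 974, 1, 0] = true)
    (hs : IsSimpleGroup (PresentedGroup (coxRels ([] : List (β × ℕ × β)) extraS)))
    (hlet0 : ∀ k, k < ngenS → ∀ l ∈ wa k, l < ptabs.L)
    (hfix0 : ∀ k, k < ngenS → trace ptabs.perm (wa k) 0 = 0)
    (b0 : β) (i : ℕ) (hi : i < ptabs.n)
    (hmove : trace ptabs.perm (wa (idxS b0)) i ≠ i) :
    ∃ N : Subgroup ↥(MulAction.stabilizer (↥H) (0 : Fin 2058)),
      Nonempty (PresentedGroup (coxRels ([] : List (β × ℕ × β)) extraS) ≃* N) := by
  have hone : ∀ j, j < extraS.length →
      PresentedGroup.mk He1.R (ev gen 7 ((rw j).flatMap (substL wa))) = 1 := by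
    intro j hj
    apply mk_eq_one_of_base
    · intro l hl
      have := allL_sound _ _ (allLt_sound _ _ hlet j hj) l hl
      rwa [blt_eq] at this
    · intro b hb
      have := allL_sound _ _ (allLt_sound _ _ hfix j hj) b hb
      rwa [nbeq_eq] at this
  let φ := PresentedGroup.toGroup
    (lift_homF_rels genS idxS ngenS He1.R gen 7 wa extraS hig rw hrw hrl hone)
  let ψ0 : PresentedGroup (coxRels ([] : List (β × ℕ × β)) extraS) →* ↥H := eH.toMonoidHom.comp φ
  have hof : ∀ b : β, ψ0 (PresentedGroup.of b) =
      eH (PresentedGroup.mk He1.R (ev gen 7 (wa (idxS b)))) := by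
    intro b
    show eH (φ (PresentedGroup.of b)) = _
    have e : φ (PresentedGroup.of b) = homF idxS He1.R gen 7 wa b := PresentedGroup.toGroup.of _
    rw [e]
    rfl
  have htop : (MulAction.stabilizer (↥H) (0 : Fin 2058)).comap ψ0 = ⊤ := by
    rw [eq_top_iff, ← PresentedGroup.closure_range_of, Subgroup.closure_le]
    rintro _ ⟨b, rfl⟩
    show ψ0 (PresentedGroup.of b) ∈ MulAction.stabilizer (↥H) (0 : Fin 2058)
    rw [hof]
    exact eH_mem_stab _ (hlet0 _ (hgi b)) (hfix0 _ (hgi b))
  have hmem : ∀ q, ψ0 q ∈ MulAction.stabilizer (↥H) (0 : Fin 2058) := by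
    intro q
    have : q ∈ (MulAction.stabilizer (↥H) (0 : Fin 2058)).comap ψ0 := by rw [htop]; exact Subgroup.mem_top q
    exact this
  let ψ := ψ0.codRestrict (MulAction.stabilizer (↥H) (0 : Fin 2058)) hmem
  have hne : ψ (PresentedGroup.of b0) ≠ 1 := by
    intro h
    have h1 : ψ0 (PresentedGroup.of b0) = 1 := congrArg Subtype.val h
    rw [hof] at h1
    exact eH_ne_one _ (hlet0 _ (hgi b0)) i hi hmove h1
  have hker : ψ.ker = ⊥ := by
    rcases hs.eq_bot_or_eq_top_of_normal ψ.ker inferInstance with h | h
    · exact h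
    · exfalso
      apply hne
      have : PresentedGroup.of b0 ∈ ψ.ker := by rw [h]; exact Subgroup.mem_top _
      exact MonoidHom.mem_ker.mp this
  have hinj : Function.Injective ψ := (MonoidHom.ker_eq_bot_iff ψ).mp hker
  exact ⟨ψ.range, ⟨MonoidHom.ofInjective hinj⟩⟩

/-- a subgroup of the point stabiliser of half its order has index 2 -/
theorem index_two (N : Subgroup ↥(MulAction.stabilizer (↥H) (0 : Fin 2058)))
    (hN : Nat.card N = 979200) : N.index = 2 := by
  have h := Subgroup.card_mul_index N
  rw [hN, stab_H] at h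
  omega

end Cfsg.Agent.Helper28.He462
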